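import Cfsg.Agent.Classical.Orth.OmegaGen

/-!
# First cohomology of `Ω` on the natural module over the field with two elements

The vanishing is reduced to a finite certificate: commuting fixed-point-free elements of order three,
Siegel transformations commuting with them, an orbit on singular vectors and a spanning set of one
Siegel group. Vectors are coded by natural numbers.
-/

set_option autoImplicit false
set_option linter.style.haveILetI false

namespace Cfsg.Lib.Classical.OrthH1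

open Matrix Cfsg.Lib.Classical.Refl
open scoped commutatorElement

variable {ι : Type} [Fintype ι] [DecidableEq ι]

/-- A cocycle vanishes on elements commuting with a fixed-point-free element of order three it kills. -/
theorem vanish_of_commute {G V : Type*} [Group G] [AddCommGroup V] (ρ : G → V → V) (f : G → V)
    (hf : ∀ g h, f (g * h) = f g + ρ g (f h)) (hρ : ∀ g, ρ g 0 = 0) {a x : G} (ha : f a = 0)
    (hfree : ∀ v, ρ a v = v → v = 0) (hc : a * x = x * a) : f x = 0 := by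
  refine hfree _ ?_
  have h1 := hf a x
  rw [hc, hf x a, ha, hρ, add_zero, zero_add] at h1
  exact h1.symm

/-- The vector with code `x`. -/
def dec {n : ℕ} (e : ι ≃ Fin n) (x : ℕ) : ι → ZMod 2 := fun i => if x.testBit (e i) then 1 else 0

/-- The field element of a bit. -/
def ofBit (b : Bool) : ZMod 2 := if b then 1 else 0

theorem ofBit_xor (a b : Bool) : ofBit (a ^^ b) = ofBit a + ofBit b := by
  cases a <;> cases b <;> decide

theorem ofBit_and (a b : Bool) : ofBit (a && b) = ofBit a * ofBit b := by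
  cases a <;> cases b <;> decide

theorem dec_xor {n : ℕ} (e : ι ≃ Fin n) (a b : ℕ) : dec e (a ^^^ b) = dec e a + dec e b := by
  funext i
  show ofBit ((a ^^^ b).testBit (e i)) = ofBit _ + ofBit _
  rw [Nat.testBit_xor, ofBit_xor]

theorem dec_zero {n : ℕ} (e : ι ≃ Fin n) : dec e 0 = 0 := by
  funext i; simp [dec]

theorem dec_ite {n : ℕ} (e : ι ≃ Fin n) (b : Bool) (z : ℕ) :
    dec e (if b then z else 0) = ofBit b • dec e z := by
  cases b <;> simp [ofBit, dec_zero]

theorem exists_code {n : ℕ} (e : ι ≃ Fin n) (v : ι → ZMod 2) : ∃ x < 2 ^ n, dec e x = v := by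
  refine ⟨Nat.ofBits fun i : Fin n => decide (v (e.symm i) = 1), Nat.ofBits_lt_two_pow _, funext fun i => ?_⟩
  simp only [dec, Nat.testBit_ofBits_lt _ _ (e i).isLt, Fin.eta, Equiv.symm_apply_apply]
  generalize v i = a
  revert a
  decide

/-- Coded linear map with the given images of the basis. -/
def lN (n : ℕ) (im : List ℕ) (x : ℕ) : ℕ :=
  ((List.range n).map fun j => if x.testBit j then im.getD j 0 else 0).foldr (· ^^^ ·) 0

/-- The matrix of a coded linear map. -/
def lM {n : ℕ} (e : ι ≃ Fin n) (im : List ℕ) : Matrix ι ι (ZMod 2) :=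
  Matrix.of fun i j => dec e (im.getD (e j) 0) i

theorem dec_foldr {n : ℕ} (e : ι ≃ Fin n) (l : List ℕ) :
    dec e (l.foldr (· ^^^ ·) 0) = (l.map (dec e)).sum := by
  induction l with
  | nil => exact dec_zero e
  | cons a l ih => rw [List.foldr_cons, dec_xor, ih, List.map_cons, List.sum_cons]

theorem lM_mulVec {n : ℕ} (e : ι ≃ Fin n) (im : List ℕ) (x : ℕ) : lM e im *ᵥ dec e x = dec e (lN n im x) := by
  rw [lN, dec_foldr, List.map_map]
  have h : ((List.range n).map (dec e ∘ fun j => if x.testBit j then im.getD j 0 else 0)).sum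
      = ∑ j : Fin n, dec e (if x.testBit j then im.getD j 0 else 0) := by
    rw [← List.sum_toFinset _ List.nodup_range, List.toFinset_range, ← Fin.sum_univ_eq_sum_range]
    rfl
  rw [h, ← e.sum_comp]
  funext i
  rw [Matrix.mulVec, dotProduct, Finset.sum_apply]
  refine Finset.sum_congr rfl fun j _ => ?_
  rw [dec_ite]
  simp [lM, dec, ofBit, mul_comm]

section Cert

variable {n : ℕ} (qN : ℕ → Bool)

/-- Coded polar form. -/
def pN (a b : ℕ) : Bool := qN (a ^^^ b) ^^ qN a ^^ qN b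

/-- Coded Siegel map. -/
def sN (u z x : ℕ) : ℕ :=
  x ^^^ (if pN qN u x then z else 0) ^^^ (if pN qN z x ^^ (qN z && pN qN u x) then u else 0)

variable (e : ι ≃ Fin n) {Q : QuadraticForm (ZMod 2) (ι → ZMod 2)}
  (hq : ∀ x < 2 ^ n, Q (dec e x) = ofBit (qN x))

include hq

theorem polar_dec {a b : ℕ} (ha : a < 2 ^ n) (hb : b < 2 ^ n) :
    QuadraticMap.polar (⇑Q) (dec e a) (dec e b) = ofBit (pN qN a b) := by
  rw [QuadraticMap.polar, ← dec_xor, hq _ (Nat.xor_lt_two_pow ha hb), hq _ ha, hq _ hb, pN, ofBit_xor, ofBit_xor,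
    sub_eq_add_neg, sub_eq_add_neg, ZMod.neg_eq_self_mod_two, ZMod.neg_eq_self_mod_two]

theorem siegel_dec {u z x : ℕ} (hu : u < 2 ^ n) (hz : z < 2 ^ n) (hx : x < 2 ^ n) :
    siegelMap Q (dec e u) (dec e z) (dec e x) = dec e (sN qN u z x) := by
  rw [siegelMap, polar_dec qN e hq hu hx, polar_dec qN e hq hz hx, hq _ hz, sN, dec_xor, dec_xor, dec_ite, dec_ite,
    ofBit_xor, ofBit_and]
  simp only [sub_eq_add_neg, ZMod.neg_eq_self_mod_two]

theorem exists_iso {im im' : List ℕ} (h : ∀ x < 2 ^ n, lN n im x < 2 ^ n ∧ qN (lN n im x) = qN x ∧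
    lN n im' (lN n im x) = x ∧ lN n im (lN n im' x) = x) :
    ∃ g : Cfsg.isometryGroup (ZMod 2) (⇑Q), ∀ x, mat Q g *ᵥ dec e x = dec e (lN n im x) := by
  have h1 : ∀ v, lM e im' *ᵥ (lM e im *ᵥ v) = v ∧ lM e im *ᵥ (lM e im' *ᵥ v) = v := fun v => by
    obtain ⟨x, hx, rfl⟩ := exists_code e v
    simp [lM_mulVec, (h x hx).2.2]
  let g : Matrix.GeneralLinearGroup ι (ZMod 2) := ⟨lM e im, lM e im',
    Matrix.toLin'.injective (LinearMap.ext fun v => by simp [(h1 v).2, ← Matrix.mulVec_mulVec]),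
    Matrix.toLin'.injective (LinearMap.ext fun v => by simp [(h1 v).1, ← Matrix.mulVec_mulVec])⟩
  refine ⟨⟨g, (mem_iff Q).mpr fun v => ?_⟩, fun x => lM_mulVec e im x⟩
  obtain ⟨x, hx, rfl⟩ := exists_code e v
  show Q (lM e im *ᵥ dec e x) = _
  rw [lM_mulVec, hq _ (h x hx).1, (h x hx).2.1, hq _ hx]

theorem ext_dec {g g' : Cfsg.isometryGroup (ZMod 2) (⇑Q)}
    (h : ∀ x < 2 ^ n, mat Q g *ᵥ dec e x = mat Q g' *ᵥ dec e x) : g = g' :=
  ext_mulVec Q fun v => by
    obtain ⟨x, hx, rfl⟩ := exists_code e v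
    exact h x hx

/-- An element of order three inverted by an involution is a commutator; its cocycle data. -/
theorem exists_free {a y : List ℕ} (h : ∀ x < 2 ^ n,
    (lN n a x < 2 ^ n ∧ lN n a (lN n a x) < 2 ^ n ∧ qN (lN n a x) = qN x ∧ lN n a (lN n a x) ^^^ lN n a x ^^^ x = 0 ∧
      lN n a (lN n a (lN n a x)) = x) ∧
    (lN n y x < 2 ^ n ∧ qN (lN n y x) = qN x ∧ lN n y (lN n y x) = x ∧
      lN n y (lN n a (lN n y x)) = lN n a (lN n a x))) :
    ∃ g ∈ Cfsg.Omega (ZMod 2) (⇑Q), (∀ x, mat Q g *ᵥ dec e x = dec e (lN n a x)) ∧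
      ∀ v, mat Q g *ᵥ (mat Q g *ᵥ v) + mat Q g *ᵥ v + v = 0 := by
  have hfree : ∀ v, lM e a *ᵥ (lM e a *ᵥ v) + lM e a *ᵥ v + v = 0 := fun v => by
    obtain ⟨x, hx, rfl⟩ := exists_code e v
    rw [lM_mulVec, lM_mulVec, ← dec_xor, ← dec_xor, (h x hx).1.2.2.2.1, dec_zero]
  have hcube : ∀ v, lM e a *ᵥ (lM e a *ᵥ (lM e a *ᵥ v)) = v := fun v => by
    obtain ⟨x, hx, rfl⟩ := exists_code e v
    rw [lM_mulVec, lM_mulVec, lM_mulVec, (h x hx).1.2.2.2.2]
  let A : Matrix.GeneralLinearGroup ι (ZMod 2) := ⟨lM e a, lM e a * lM e a,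
    Matrix.toLin'.injective (LinearMap.ext fun v => by simp [hcube v, ← Matrix.mulVec_mulVec]),
    Matrix.toLin'.injective (LinearMap.ext fun v => by simp [hcube v, ← Matrix.mulVec_mulVec])⟩
  let g : Cfsg.isometryGroup (ZMod 2) (⇑Q) := ⟨A, (mem_iff Q).mpr fun v => by
    obtain ⟨x, hx, rfl⟩ := exists_code e v
    show Q (lM e a *ᵥ dec e x) = _
    rw [lM_mulVec, hq _ (h x hx).1.1, (h x hx).1.2.2.1, hq _ hx]⟩
  obtain ⟨s, hs⟩ := exists_iso qN e hq (im := y) (im' := y) fun x hx =>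
    ⟨(h x hx).2.1, (h x hx).2.2.1, (h x hx).2.2.2.1, (h x hx).2.2.2.1⟩
  refine ⟨g, ?_, fun x => lM_mulVec e a x, hfree⟩
  have hg : ∀ x, mat Q g *ᵥ dec e x = dec e (lN n a x) := fun x => lM_mulVec e a x
  have hss : s * s = 1 := ext_dec qN e hq fun x hx => by
    rw [mat, mulVec_mul, show mat Q 1 = 1 from rfl, Matrix.one_mulVec]
    show mat Q s *ᵥ (mat Q s *ᵥ _) = _
    rw [hs, hs, (h x hx).2.2.2.1]
  have hinv : s * g * s = g * g := ext_dec qN e hq fun x hx => by
    rw [mat, mulVec_mul, mulVec_mul, mat, mulVec_mul]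
    show mat Q s *ᵥ (mat Q g *ᵥ (mat Q s *ᵥ _)) = mat Q g *ᵥ (mat Q g *ᵥ _)
    rw [hs, hg, hs, hg, hg, (h x hx).2.2.2.2]
  have : g = ⁅s, g⁆ := by
    rw [commutatorElement_def, inv_eq_of_mul_eq_one_right hss, hinv, mul_inv_cancel_right]
  rw [this]
  exact Subgroup.commutator_mem_commutator (Subgroup.mem_top _) (Subgroup.mem_top _)

end Cert

end Cfsg.Lib.Classical.OrthH1
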