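import Cfsg.Agent.Classical.OrthH1.Basic

/-!
# The certificate theorem for vanishing of cohomology
-/

set_option autoImplicit false
set_option linter.style.haveILetI false

namespace Cfsg.Lib.Classical.OrthH1

open Matrix Cfsg.Lib.Classical.Refl

/-- A finite certificate: `a0` and the `acts` are fixed-point-free elements of order three with
inverting involutions, the `gens` Siegel maps `(action, u, z)` commuting with an action, `orbit` rows
`(v, gen, parent)`, `span` rows `(gen, u, z, word, image)`, and `basis` rows decompose basis vectors. -/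
structure Cert where
  n : ℕ
  a0 : List ℕ × List ℕ
  acts : List (List ℕ × List ℕ)
  gens : List (ℕ × ℕ × ℕ)
  orbit : List (ℕ × ℕ × ℕ)
  span : List (ℕ × ℕ × ℕ × List ℕ × ℕ)
  basis : List (List ℕ)
  pivot : ℕ

variable (c : Cert) (qN : ℕ → Bool)

/-- One coded generator applied. -/
def Cert.step (g x : ℕ) : ℕ :=
  sN qN (c.gens.getD g (0, 0, 0)).2.1 (c.gens.getD g (0, 0, 0)).2.2 x

/-- An element of order three together with an inverting involution. -/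
def goodPair (n : ℕ) (p : List ℕ × List ℕ) : Prop :=
  ∀ x < 2 ^ n,
    (lN n p.1 x < 2 ^ n ∧ lN n p.1 (lN n p.1 x) < 2 ^ n ∧ qN (lN n p.1 x) = qN x ∧
      lN n p.1 (lN n p.1 x) ^^^ lN n p.1 x ^^^ x = 0 ∧ lN n p.1 (lN n p.1 (lN n p.1 x)) = x) ∧
    (lN n p.2 x < 2 ^ n ∧ qN (lN n p.2 x) = qN x ∧ lN n p.2 (lN n p.2 x) = x ∧
      lN n p.2 (lN n p.1 (lN n p.2 x)) = lN n p.1 (lN n p.1 x))

instance (n : ℕ) (p : List ℕ × List ℕ) : Decidable (goodPair qN n p) :=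
  inferInstanceAs (Decidable (∀ x < 2 ^ n, _))

/-- The certificate is valid. -/
structure Cert.Valid : Prop where
  good0 : goodPair qN c.n c.a0
  good : ∀ p ∈ c.acts, goodPair qN c.n p
  comm0 : ∀ p ∈ c.acts, ∀ x < 2 ^ c.n, lN c.n p.1 (lN c.n c.a0.1 x) = lN c.n c.a0.1 (lN c.n p.1 x)
  gens : ∀ t ∈ c.gens, t.1 < c.acts.length ∧ t.2.1 < 2 ^ c.n ∧ t.2.2 < 2 ^ c.n ∧ qN t.2.1 = false ∧
    pN qN t.2.1 t.2.2 = false
  genComm : ∀ t ∈ c.gens, ∀ x < 2 ^ c.n, sN qN t.2.1 t.2.2 x < 2 ^ c.n ∧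
    sN qN t.2.1 t.2.2 (lN c.n (c.acts.getD t.1 ([], [])).1 x)
      = lN c.n (c.acts.getD t.1 ([], [])).1 (sN qN t.2.1 t.2.2 x)
  orbit : ∀ i < c.orbit.length, (c.orbit.getD i (0, 0, 0)).1 = 1 ∨
    ((c.orbit.getD i (0, 0, 0)).2.1 < c.gens.length ∧ (c.orbit.getD i (0, 0, 0)).2.2 < i ∧
      (c.orbit.getD i (0, 0, 0)).1
        = c.step qN (c.orbit.getD i (0, 0, 0)).2.1 (c.orbit.getD (c.orbit.getD i (0, 0, 0)).2.2 (0, 0, 0)).1)
  complete : ∀ x < 2 ^ c.n, x ≠ 0 → qN x = false → x ∈ c.orbit.map (·.1)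
  span : ∀ t ∈ c.span, t.1 < c.gens.length ∧ t.2.1 < 2 ^ c.n ∧ t.2.2.1 < 2 ^ c.n ∧
    qN t.2.1 = false ∧ pN qN t.2.1 t.2.2.1 = false ∧
    (∀ x < 2 ^ c.n, sN qN t.2.1 t.2.2.1 x = c.step qN t.1 x) ∧ (∀ g ∈ t.2.2.2.1, g < c.gens.length) ∧
    t.2.2.2.1.foldl (fun v g => c.step qN g v) t.2.1 = 1 ∧
    t.2.2.2.1.foldl (fun v g => c.step qN g v) t.2.2.1 = t.2.2.2.2
  one_lt : 1 < 2 ^ c.n ∧ qN 1 = false
  perp : ∀ x < 2 ^ c.n, pN qN 1 x = x.testBit c.pivot
  basis : ∀ i < c.n, i ≠ c.pivot → (c.basis.getD i []).foldr (· ^^^ ·) 0 = 2 ^ i ∧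
    ∀ z ∈ c.basis.getD i [], z = 1 ∨ z ∈ c.span.map (·.2.2.2.2)
  ident : ∀ x < 2 ^ c.n, lN c.n ((List.range c.n).map (2 ^ ·)) x = x

variable {ι : Type} [Fintype ι] [DecidableEq ι] {Q : QuadraticForm (ZMod 2) (ι → ZMod 2)}

theorem Cert.h1 (h : c.Valid qN) (e : ι ≃ Fin c.n) (hq : ∀ x < 2 ^ c.n, Q (dec e x) = ofBit (qN x))
    (hQ : (QuadraticMap.polarBilin Q).Nondegenerate) (hn : 5 ≤ Fintype.card ι)
    (f : ↥(Cfsg.Omega (ZMod 2) (⇑Q)) → ι → ZMod 2)
    (hf : ∀ g g', f (g * g') = f g + mat Q g.1 *ᵥ f g') :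
    ∃ v, ∀ g : ↥(Cfsg.Omega (ZMod 2) (⇑Q)), f g = mat Q g.1 *ᵥ v - v := by
  obtain ⟨a, haΩ, ha, hfree⟩ := exists_free qN e hq (a := c.a0.1) (y := c.a0.2) h.good0
  set v₀ := mat Q a *ᵥ f ⟨a, haΩ⟩ with hv₀
  refine ⟨v₀, ?_⟩
  set f' : ↥(Cfsg.Omega (ZMod 2) (⇑Q)) → ι → ZMod 2 := fun g => f g - (mat Q g.1 *ᵥ v₀ - v₀) with hf'
  have hcoc : ∀ g g', f' (g * g') = f' g + mat Q g.1 *ᵥ f' g' := fun g g' => by
    simp only [hf', hf, Subgroup.coe_mul, mat, Units.val_mul, ← Matrix.mulVec_mulVec, Matrix.mulVec_sub]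
    abel
  have neg2 : ∀ w : ι → ZMod 2, -w = w := fun w => funext fun i => ZMod.neg_eq_self_mod_two _
  have hfa : f' ⟨a, haΩ⟩ = 0 := by
    show f ⟨a, haΩ⟩ - (mat Q a *ᵥ v₀ - v₀) = 0
    rw [sub_eq_add_neg, neg2, sub_eq_add_neg, neg2, hv₀, ← add_assoc]
    have := hfree (f ⟨a, haΩ⟩)
    rw [← this]; abel
  have hfp : ∀ (b : Cfsg.isometryGroup (ZMod 2) (⇑Q)), (∀ v, mat Q b *ᵥ (mat Q b *ᵥ v) + mat Q b *ᵥ v + v = 0) →
      ∀ v, mat Q b *ᵥ v = v → v = 0 := fun b hb v hv => by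
    have := hb v
    rwa [hv, hv, add_eq_zero_iff_eq_neg.mpr (neg2 v).symm, zero_add] at this
  let Z : Subgroup (Cfsg.isometryGroup (ZMod 2) (⇑Q)) :=
    { carrier := {g | ∃ hg : g ∈ Cfsg.Omega (ZMod 2) (⇑Q), f' ⟨g, hg⟩ = 0}
      one_mem' := ⟨one_mem _, by
        have := hcoc 1 1
        rw [mul_one, show mat Q ((1 : ↥(Cfsg.Omega (ZMod 2) (⇑Q))) : Cfsg.isometryGroup (ZMod 2) (⇑Q)) = 1 from rfl,
          Matrix.one_mulVec] at this
        exact left_eq_add.mp this⟩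
      mul_mem' := by
        rintro x y ⟨hx, hx'⟩ ⟨hy, hy'⟩
        exact ⟨mul_mem hx hy, (hcoc ⟨x, hx⟩ ⟨y, hy⟩).trans (by rw [hx', hy', Matrix.mulVec_zero, add_zero])⟩
      inv_mem' := by
        rintro x ⟨hx, hx'⟩
        refine ⟨inv_mem hx, ?_⟩
        have h0 : f' (⟨x, hx⟩⁻¹ * ⟨x, hx⟩) = f' ⟨x⁻¹, inv_mem hx⟩ := by
          rw [hcoc, hx', Matrix.mulVec_zero, add_zero]; rfl
        rw [← h0, inv_mul_cancel]
        have := hcoc 1 1
        rw [mul_one, show mat Q ((1 : ↥(Cfsg.Omega (ZMod 2) (⇑Q))) : Cfsg.isometryGroup (ZMod 2) (⇑Q)) = 1 from rfl,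
          Matrix.one_mulVec] at this
        exact left_eq_add.mp this }
  have hZ : ∀ b x, b ∈ Z → x ∈ Cfsg.Omega (ZMod 2) (⇑Q) →
      (∀ v, mat Q b *ᵥ (mat Q b *ᵥ v) + mat Q b *ᵥ v + v = 0) → b * x = x * b → x ∈ Z := by
    rintro b x ⟨hb, hb'⟩ hx hbf hbx
    exact ⟨hx, vanish_of_commute (fun g : ↥(Cfsg.Omega (ZMod 2) (⇑Q)) => fun v => mat Q g.1 *ᵥ v) f' hcoc
      (fun g => Matrix.mulVec_zero _) (a := ⟨b, hb⟩) hb' (hfp b hbf) (Subtype.ext hbx)⟩
  have hact : ∀ p ∈ c.acts, ∃ b ∈ Z, (∀ x, mat Q b *ᵥ dec e x = dec e (lN c.n p.1 x)) ∧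
      ∀ v, mat Q b *ᵥ (mat Q b *ᵥ v) + mat Q b *ᵥ v + v = 0 := fun p hp => by
    obtain ⟨b, hbΩ, hb, hbfree⟩ := exists_free qN e hq (a := p.1) (y := p.2) (h.good p hp)
    refine ⟨b, hZ a b ⟨haΩ, hfa⟩ hbΩ hfree (ext_dec qN e hq fun x hx => ?_), hb, hbfree⟩
    rw [mat, mulVec_mul, mat, mulVec_mul]
    show mat Q a *ᵥ (mat Q b *ᵥ _) = mat Q b *ᵥ (mat Q a *ᵥ _)
    rw [hb, ha, ha, hb, h.comm0 p hp x hx]
  have hgen : ∀ k < c.gens.length, ∃ t ∈ Z, ∀ x < 2 ^ c.n, mat Q t *ᵥ dec e x = dec e (c.step qN k x) := by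
    intro k hk
    have hm : c.gens.getD k (0, 0, 0) ∈ c.gens := by rw [List.getD_eq_getElem _ _ hk]; exact List.getElem_mem hk
    unfold Cert.step
    revert hm
    generalize c.gens.getD k (0, 0, 0) = t
    intro hm
    obtain ⟨h1, h2, h3, h4, h5⟩ := h.gens t hm
    obtain ⟨b, hbZ, hb, hbfree⟩ := hact (c.acts.getD t.1 ([], []))
      (by rw [List.getD_eq_getElem _ _ h1]; exact List.getElem_mem h1)
    have hu : Q (dec e t.2.1) = 0 := by rw [hq _ h2, h4]; rfl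
    have huz : QuadraticMap.polar (⇑Q) (dec e t.2.1) (dec e t.2.2) = 0 := by rw [polar_dec qN e hq h2 h3, h5]; rfl
    refine ⟨siegelG Q hu huz, hZ b _ hbZ (siegelG_mem_omega Q hQ hn hu huz) hbfree (ext_dec qN e hq fun x hx => ?_),
      fun x hx => by rw [mat_siegelG, siegel_dec qN e hq h2 h3 hx]⟩
    have hlt : lN c.n (c.acts.getD t.1 ([], [])).1 x < 2 ^ c.n :=
      ((h.good _ (by rw [List.getD_eq_getElem _ _ h1]; exact List.getElem_mem h1)) x hx).1.1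
    rw [mat, mulVec_mul, mat, mulVec_mul]
    show mat Q b *ᵥ (mat Q _ *ᵥ _) = mat Q _ *ᵥ (mat Q b *ᵥ _)
    rw [mat_siegelG, siegel_dec qN e hq h2 h3 hx, hb, hb, mat_siegelG, siegel_dec qN e hq h2 h3 hlt,
      (h.genComm t hm x hx).2]
  have hmove : ∀ i < c.orbit.length, (c.orbit.getD i (0, 0, 0)).1 < 2 ^ c.n ∧
      ∃ k ∈ Z, mat Q k *ᵥ dec e 1 = dec e (c.orbit.getD i (0, 0, 0)).1 := by
    intro i
    induction i using Nat.strong_induction_on with
    | _ i ih =>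
      intro hi
      rcases h.orbit i hi with h1 | ⟨hg, hp, he⟩
      · exact ⟨h1 ▸ h.one_lt.1, 1, one_mem _, by rw [h1]; exact Matrix.one_mulVec _⟩
      · obtain ⟨hlt, k, hk, hk'⟩ := ih _ hp (hp.trans hi)
        obtain ⟨t, ht, ht'⟩ := hgen _ hg
        refine ⟨?_, t * k, mul_mem ht hk, ?_⟩
        · rw [he]
          exact (h.genComm _ (by rw [List.getD_eq_getElem _ _ hg]; exact List.getElem_mem hg) _ hlt).1
        · rw [mat, mulVec_mul]
          show mat Q t *ᵥ (mat Q k *ᵥ _) = _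
          rw [hk', ht' _ hlt, ← he]
  have hu₀ : Q (dec e 1) = 0 := by rw [hq _ h.one_lt.1, h.one_lt.2]; rfl
  let S : Set (ι → ZMod 2) := {z | ∃ hz : QuadraticMap.polar (⇑Q) (dec e 1) z = 0, siegelG Q hu₀ hz ∈ Z}
  have hSadd : ∀ z z', z ∈ S → z' ∈ S → z + z' ∈ S := fun z z' ⟨hz, h1⟩ ⟨hz', h2⟩ =>
    ⟨by rw [QuadraticMap.polar_add_right, hz, hz', add_zero], by rw [← siegelG_mul Q hu₀ hz hz']; exact mul_mem h1 h2⟩
  have hSone : dec e 1 ∈ S := by
    have hp : QuadraticMap.polar (⇑Q) (dec e 1) (dec e 1) = 0 := by rw [QuadraticMap.polar_self, hu₀, smul_zero]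
    refine ⟨hp, ?_⟩
    have : siegelG Q hu₀ hp = 1 := ext_mulVec Q fun x => by
      rw [mat_siegelG, show mat Q 1 = 1 from rfl, Matrix.one_mulVec]
      simp [siegelMap, hu₀, ← add_smul, add_assoc, CharTwo.add_self_eq_zero]
    rw [this]; exact one_mem _
  have hSzero : (0 : ι → ZMod 2) ∈ S := by
    have hp : QuadraticMap.polar (⇑Q) (dec e 1) 0 = 0 := QuadraticMap.polar_zero_right (Q := Q) _
    refine ⟨hp, ?_⟩
    have : siegelG Q hu₀ hp = 1 := ext_mulVec Q fun x => by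
      rw [mat_siegelG, show mat Q 1 = 1 from rfl, Matrix.one_mulVec, siegel_zero]
    rw [this]; exact one_mem _
  have hSspan : ∀ t ∈ c.span, dec e t.2.2.2.2 ∈ S := by
    intro t ht
    obtain ⟨h1, h2, h3, h4, h5, h6, h7, h8, h9⟩ := h.span t ht
    obtain ⟨T, hT, hT'⟩ := hgen _ h1
    have key : ∀ (w : List ℕ), (∀ g ∈ w, g < c.gens.length) → ∀ u z, u < 2 ^ c.n → z < 2 ^ c.n →
        ∀ (hu : Q (dec e u) = 0) (huz : QuadraticMap.polar (⇑Q) (dec e u) (dec e z) = 0), siegelG Q hu huz ∈ Z →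
        ∃ u' z', u' = w.foldl (fun v g => c.step qN g v) u ∧ z' = w.foldl (fun v g => c.step qN g v) z ∧
        ∃ (hu' : Q (dec e u') = 0) (huz' : QuadraticMap.polar (⇑Q) (dec e u') (dec e z') = 0),
          siegelG Q hu' huz' ∈ Z := by
      intro w
      induction w with
      | nil => exact fun _ u z _ _ hu huz hin => ⟨u, z, rfl, rfl, hu, huz, hin⟩
      | cons g w ih =>
        intro hw u z hlu hlz hu huz hin
        obtain ⟨T, hT, hT'⟩ := hgen g (hw g List.mem_cons_self)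
        have hm : c.gens.getD g (0, 0, 0) ∈ c.gens := by
          rw [List.getD_eq_getElem _ _ (hw g List.mem_cons_self)]; exact List.getElem_mem _
        have hc := siegelG_conj Q T hu huz
        have hin' := mul_mem (mul_mem hT hin) (inv_mem hT)
        rw [hc] at hin'
        exact ih (fun x hx => hw x (List.mem_cons_of_mem g hx)) (c.step qN g u) (c.step qN g z)
          ((h.genComm _ hm u hlu).1) ((h.genComm _ hm z hlz).1)
          (by rw [← hT' u hlu, (mem_iff Q).mp T.2, hu]) (by rw [← hT' u hlu, ← hT' z hlz, polar_act, huz])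
          (by convert hin' using 2 <;> [rw [hT' u hlu]; rw [hT' z hlz]])
    have hu : Q (dec e t.2.1) = 0 := by rw [hq _ h2, h4]; rfl
    have huz : QuadraticMap.polar (⇑Q) (dec e t.2.1) (dec e t.2.2.1) = 0 := by rw [polar_dec qN e hq h2 h3, h5]; rfl
    have hT2 : siegelG Q hu huz ∈ Z := by
      have : siegelG Q hu huz = T := ext_dec qN e hq fun x hx => by
        rw [mat_siegelG, siegel_dec qN e hq h2 h3 hx, h6 x hx, hT' x hx]
      rw [this]; exact hT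
    obtain ⟨u', z', rfl, rfl, hu', huz', hin⟩ := key _ h7 _ _ h2 h3 hu huz hT2
    revert hu' huz'
    rw [h8, h9]
    exact fun hu' huz' hin => ⟨huz', hin⟩
  have hSall : ∀ x < 2 ^ c.n, x.testBit c.pivot = false → dec e x ∈ S := by
    intro x hx hxp
    rw [← h.ident x hx, lN]
    have key : ∀ l : List ℕ, (∀ j ∈ l, dec e j ∈ S) → dec e (l.foldr (· ^^^ ·) 0) ∈ S := by
      intro l hl
      induction l with
      | nil => rw [List.foldr_nil, dec_zero]; exact hSzero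
      | cons a l ih =>
        rw [List.foldr_cons, dec_xor]
        exact hSadd _ _ (hl a List.mem_cons_self) (ih fun j hj => hl j (List.mem_cons_of_mem a hj))
    refine key _ fun j hj => ?_
    obtain ⟨i, hi, rfl⟩ := List.mem_map.mp hj
    rw [List.mem_range] at hi
    by_cases hb : x.testBit i
    · rw [if_pos hb, List.getD_eq_getElem _ _ (by simpa using hi), List.getElem_map, List.getElem_range]
      have hne : i ≠ c.pivot := fun e' => by rw [e', hxp] at hb; exact Bool.noConfusion hb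
      obtain ⟨h1, h2⟩ := h.basis i hi hne
      rw [← h1]
      refine key _ fun z hz => ?_
      rcases h2 z hz with rfl | hz'
      · exact hSone
      · obtain ⟨t, ht, rfl⟩ := List.mem_map.mp hz'
        exact hSspan t ht
    · rw [if_neg hb, dec_zero]; exact hSzero
  have hall : Cfsg.Omega (ZMod 2) (⇑Q) ≤ Z := by
    rw [omega_eq_closure_all Q hQ hn, Subgroup.closure_le]
    rintro g ⟨u, z, hu, huz, rfl⟩
    by_cases hu0 : u = 0
    · have : siegelG Q hu huz = 1 := ext_mulVec Q fun x => by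
        rw [mat_siegelG, show mat Q 1 = 1 from rfl, Matrix.one_mulVec]
        simp [siegelMap, hu0]
      rw [this]; exact one_mem _
    obtain ⟨x, hx, rfl⟩ := exists_code e u
    have hqx : qN x = false := by
      rw [hq _ hx] at hu
      cases hb : qN x
      · rfl
      · rw [hb] at hu; exact absurd hu (by decide)
    have hx0 : x ≠ 0 := fun e' => hu0 (by rw [e', dec_zero])
    obtain ⟨r, hr, hrx⟩ := List.mem_map.mp (h.complete x hx hx0 hqx)
    obtain ⟨i, hi, rfl⟩ := List.getElem_of_mem hr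
    obtain ⟨-, k, hk, hk'⟩ := hmove i hi
    rw [List.getD_eq_getElem _ _ hi, hrx] at hk'
    have hinv : mat Q k⁻¹ *ᵥ dec e x = dec e 1 := by
      rw [← hk', ← mulVec_mul, inv_mul_cancel]; exact Matrix.one_mulVec _
    have hc := siegelG_conj Q k⁻¹ hu huz
    obtain ⟨y, hy, hy'⟩ := exists_code e (mat Q k⁻¹ *ᵥ z)
    have hp : QuadraticMap.polar (⇑Q) (dec e 1) (dec e y) = 0 := by rw [← hinv, hy', polar_act, huz]
    have hy0 : y.testBit c.pivot = false := by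
      rw [← h.perp y hy]
      rw [polar_dec qN e hq h.one_lt.1 hy] at hp
      cases hb : pN qN 1 y
      · rfl
      · rw [hb] at hp; exact absurd hp (by decide)
    obtain ⟨hp', hin⟩ := hSall y hy hy0
    have hin' : k⁻¹ * siegelG Q hu huz * k⁻¹⁻¹ ∈ Z := by
      rw [hc]
      convert hin using 2
      all_goals first | exact hinv | exact hy'.symm
    have := mul_mem (mul_mem hk hin') (inv_mem hk)
    rwa [show k * (k⁻¹ * siegelG Q hu huz * k⁻¹⁻¹) * k⁻¹ = siegelG Q hu huz by group] at this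
  intro g
  obtain ⟨hg, hg'⟩ := hall g.2
  exact sub_eq_zero.mp hg'

end Cfsg.Lib.Classical.OrthH1
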