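import Cfsg.Agent.Classical.OrthH1.Cert
import Cfsg.Agent.Classical.Orth.StdForms
import Cfsg.Agent.Classical.Misc.HyperbolicQuadric

/-!
# Cohomology of the natural module in dimension 8
-/

set_option autoImplicit false
set_option linter.style.longLine false
set_option maxHeartbeats 4000000
set_option maxRecDepth 100000

namespace Cfsg.Lib.Classical.OrthH1

open Matrix Cfsg.Lib.Classical.Refl Cfsg.Lib.Classical.HypQuad

/-- The coded form. -/
def qEight (x : ℕ) : Bool := (x.testBit 0 && x.testBit 4) ^^ (x.testBit 1 && x.testBit 5) ^^ (x.testBit 2 && x.testBit 6) ^^ (x.testBit 3 && x.testBit 7)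

/-- Certificate in dimension 8. -/
def certEight : Cert where
  n := 8
  a0 := ([3, 1, 12, 4, 32, 48, 128, 192], [2, 1, 8, 4, 33, 18, 132, 72])
  acts := [([3, 1, 132, 72, 32, 48, 8, 4], [2, 1, 204, 72, 33, 18, 64, 192]), ([195, 129, 155, 125, 224, 112, 192, 64], [217, 129, 155, 125, 250, 73, 132, 219]), ([207, 133, 159, 117, 236, 120, 185, 215], [213, 133, 159, 117, 246, 65, 245, 72]), ([237, 150, 155, 125, 206, 73, 249, 87], [224, 150, 155, 125, 195, 103, 170, 204]), ([67, 193, 185, 110, 96, 176, 192, 64], [85, 193, 185, 110, 118, 133, 155, 204])]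
  gens := [(1, 1, 195), (3, 36, 210), (4, 41, 157), (0, 55, 150), (2, 18, 105)]
  orbit := [(1, 0, 0), (37, 1, 0), (40, 2, 0), (160, 3, 0), (104, 4, 0), (12, 2, 1), (55, 4, 1), (190, 3, 2), (65, 4, 2), (161, 0, 3), (132, 1, 3), (20, 2, 3), (219, 4, 3), (186, 1, 4), (95, 3, 4), (59, 3, 5), (30, 4, 5), (245, 0, 6), (193, 1, 6), (125, 0, 7), (72, 1, 7), (10, 2, 7), (215, 4, 7), (183, 1, 8), (60, 2, 9), (179, 4, 9), (133, 0, 10), (48, 2, 10), (130, 3, 11), (24, 0, 12), (111, 2, 12), (236, 3, 12), (120, 0, 13), (14, 2, 13), (44, 3, 13), (157, 0, 14), (123, 1, 14), (36, 4, 14), (249, 0, 15), (205, 1, 15), (18, 2, 15), (220, 0, 16), (204, 1, 16), (41, 3, 16), (3, 1, 17), (194, 3, 17), (231, 4, 17), (117, 2, 18), (175, 1, 19), (224, 2, 19), (73, 0, 20), (222, 3, 20), (11, 0, 21), (252, 1, 21), (171, 3, 21), (74, 2, 22), (255, 0, 24), (85, 4, 24), (112, 0, 25), (97, 1, 25), (7, 2, 25), (243, 0, 27), (75, 4, 27), (80,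 1, 28), (185, 3, 29), (110, 0, 30), (237, 0, 31), (26, 1, 31), (88, 2, 31), (170, 1, 32), (217, 3, 32), (45, 0, 34), (8, 1, 34), (5, 2, 34), (87, 4, 34), (230, 4, 35), (15, 1, 38), (208, 2, 38), (250, 3, 39), (164, 4, 39), (192, 1, 40), (206, 4, 41), (90, 3, 42), (13, 1, 43), (52, 3, 44), (195, 1, 46), (131, 1, 47), (66, 3, 47), (174, 0, 48), (134, 2, 48), (189, 4, 48), (225, 0, 49), (22, 1, 49), (155, 4, 49), (96, 2, 50), (126, 3, 50), (32, 4, 50), (28, 0, 51), (67, 2, 51), (150, 2, 52), (63, 0, 53), (93, 3, 53), (135, 4, 53), (105, 3, 56), (6, 0, 60), (213, 1, 60), (82, 3, 61), (234, 3, 62), (146, 0, 63), (103, 3, 63), (207, 3, 65), (240, 2, 70), (176, 4, 70), (9, 0, 72), (33, 2, 72), (4, 0, 73), (148, 0, 74), (102, 4, 76), (2, 1, 77), (56, 0, 78), (129, 4, 78), (16, 2, 79), (210, 4, 80), (153, 0, 82), (115, 2, 82), (118, 4, 83), (246, 0, 84), (128, 2, 84), (180, 3, 86), (51, 1, 91), (64, 3, 91), (159,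 0, 101), (144, 3, 104), (235, 1, 110), (165, 2, 119)]
  span := [(0, 1, 195, [], 195), (1, 36, 210, [4, 3, 4], 97), (1, 210, 36, [4, 1, 2, 3, 2, 1], 134), (2, 157, 41, [0, 3, 4], 12), (0, 1, 195, [1, 3, 1], 2), (0, 1, 195, [3, 1, 4, 1, 3], 171)]
  basis := [[1], [2], [1, 195, 97, 12, 171], [1, 195, 97, 171], [], [1, 134, 12, 171], [97, 134, 12, 171], [1, 195, 97, 134, 12, 2, 171]]
  pivot := 4

/-- The index coding. -/
def eEight : Fin 4 ⊕ Fin 4 ≃ Fin certEight.n :=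
  finSumFinEquiv

theorem validEight : certEight.Valid qEight :=
  ⟨by decide +kernel, by decide +kernel, by decide +kernel, by decide +kernel, by decide +kernel, by decide +kernel,
    by decide +kernel, by decide +kernel, by decide +kernel, by decide +kernel, by decide +kernel, by decide +kernel⟩

theorem formEight : ∀ x < 2 ^ certEight.n, Cfsg.quadFormPlus 4 (ZMod 2) (dec eEight x) = ofBit (qEight x) := by
  unfold Cfsg.quadFormPlus
  decide +kernel

theorem h1Eight : ∀ f : ↥(Cfsg.Omega (ZMod 2) (Cfsg.quadFormPlus 4 (ZMod 2))) → (Fin 4 ⊕ Fin 4 → ZMod 2),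
    (∀ g h : ↥(Cfsg.Omega (ZMod 2) (Cfsg.quadFormPlus 4 (ZMod 2))), f (g * h) = f g + Matrix.mulVec (((g : ↥(Cfsg.isometryGroup (ZMod 2) (Cfsg.quadFormPlus 4 (ZMod 2)))) : GL (Fin 4 ⊕ Fin 4) (ZMod 2)) : Matrix (Fin 4 ⊕ Fin 4) (Fin 4 ⊕ Fin 4) (ZMod 2)) (f h)) →
    ∃ v : Fin 4 ⊕ Fin 4 → ZMod 2, ∀ g : ↥(Cfsg.Omega (ZMod 2) (Cfsg.quadFormPlus 4 (ZMod 2))),
      f g = Matrix.mulVec (((g : ↥(Cfsg.isometryGroup (ZMod 2) (Cfsg.quadFormPlus 4 (ZMod 2)))) : GL (Fin 4 ⊕ Fin 4) (ZMod 2)) : Matrix (Fin 4 ⊕ Fin 4) (Fin 4 ⊕ Fin 4) (ZMod 2)) v - v := by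
  have hco : ⇑(plusForm 4 (ZMod 2)) = Cfsg.quadFormPlus 4 (ZMod 2) := funext (plusForm_apply 4)
  rw [← hco]
  intro f hf
  exact certEight.h1 qEight validEight eEight (fun x hx => by rw [hco]; exact formEight x hx)
    (plusForm_nondegenerate 4) (by simp) f hf

end Cfsg.Lib.Classical.OrthH1
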