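import Cfsg.Agent.Classical.OrthH1.Basic
import Cfsg.Agent.Classical.Orth.SmallOrth

/-!
# Cohomology of the natural module of `Ω⁻₄(2)`
-/

set_option autoImplicit false
set_option linter.style.longLine false
set_option maxRecDepth 100000
set_option maxHeartbeats 1000000

namespace Cfsg.Lib.Classical.OrthH1

open Matrix Cfsg.Lib.Classical.Refl
open scoped commutatorElement

/-- The coded form. -/
def qFour (x : ℕ) : Bool := (x.testBit 0 && x.testBit 1) ^^ x.testBit 2 ^^ (x.testBit 2 && x.testBit 3) ^^ x.testBit 3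

/-- The index coding. -/
def eFour : (Fin 1 ⊕ Fin 1) ⊕ Fin 2 ≃ Fin 4 :=
  (Equiv.sumCongr finSumFinEquiv (Equiv.refl _)).trans finSumFinEquiv

/-- Sixty words in the two generators. -/
def fourWords : List (List Bool) := [[], [true], [false], [true, true], [true, false], [false, true], [true, true, true], [true, true, false], [true, false, true], [false, true, true], [false, true, false], [true, true, true, true], [true, true, true, false], [true, true, false, true], [true, false, true, true], [true, false, true, false], [false, true, true, true], [false, true, true, false], [false, true, false, true], [true, true, true, false, true], [true, true, false, true, true], [true, true, false, true, false], [true, false, true, true, true], [true, false, true, true, false], [false, true, true, true, false], [false, true, true, false, true], [false, true, false, true, true], [true, true, true, false, true, true], [true, true, true, false, true, false], [true, true,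 false, true, true, true], [true, true, false, true, true, false], [true, false, true, true, true, false], [false, true, true, true, false, true], [false, true, true, false, true, true], [false, true, true, false, true, false], [false, true, false, true, true, true], [false, true, false, true, true, false], [true, true, true, false, true, true, true], [true, true, true, false, true, true, false], [true, true, false, true, true, true, false], [true, false, true, true, true, false, true], [false, true, true, true, false, true, true], [false, true, true, true, false, true, false], [false, true, true, false, true, true, true], [false, true, true, false, true, true, false], [false, true, false, true, true, true, false], [true, true, true, false, true, true, true, false], [true, true, false, true, true, true, false, true], [true, false, true, true, true, false, true, true], [true, false, true, true, true, false, true, false], [false, true, true, true, false, true,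 true, false], [false, true, true, false, true, true, true, false], [true, true, true, false, true, true, true, false, true], [true, true, false, true, true, true, false, true, true], [true, true, false, true, true, true, false, true, false], [true, false, true, true, true, false, true, true, false], [false, true, true, false, true, true, true, false, true], [true, true, true, false, true, true, true, false, true, true], [true, true, true, false, true, true, true, false, true, false], [true, true, false, true, true, true, false, true, true, false]]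

/-- The code action of a word. -/
def fourAct (w : List Bool) (x : ℕ) : ℕ :=
  w.foldr (fun s y => lN 4 (if s then [2, 7, 10, 4] else [1, 7, 4, 9]) y) x

theorem formFour : ∀ x < 2 ^ 4, Cfsg.quadFormMinus 1 (ZMod 2) 1 1 (dec eFour x) = ofBit (qFour x) := by
  unfold Cfsg.quadFormMinus
  decide +kernel

theorem hqFour : ∀ x < 2 ^ 4, minusForm 1 (ZMod 2) 1 1 (dec eFour x) = ofBit (qFour x) := fun x hx => by
  rw [minusForm_coe]; exact formFour x hx

theorem exists_comm {g g' h h' im : List ℕ}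
    (hg : ∀ x < 2 ^ 4, lN 4 g x < 2 ^ 4 ∧ qFour (lN 4 g x) = qFour x ∧ lN 4 g' (lN 4 g x) = x ∧ lN 4 g (lN 4 g' x) = x)
    (hh : ∀ x < 2 ^ 4, lN 4 h x < 2 ^ 4 ∧ qFour (lN 4 h x) = qFour x ∧ lN 4 h' (lN 4 h x) = x ∧ lN 4 h (lN 4 h' x) = x)
    (hb : ∀ x < 2 ^ 4, lN 4 g' x < 2 ^ 4 ∧ lN 4 h' x < 2 ^ 4 ∧
      lN 4 g (lN 4 h (lN 4 g' (lN 4 h' x))) = lN 4 im x) :
    ∃ b ∈ Cfsg.Omega (ZMod 2) (⇑(minusForm 1 (ZMod 2) 1 1)),
      ∀ x < 2 ^ 4, mat (minusForm 1 (ZMod 2) 1 1) b *ᵥ dec eFour x = dec eFour (lN 4 im x) := by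
  obtain ⟨u, hu⟩ := exists_iso qFour eFour hqFour hg
  obtain ⟨v, hv⟩ := exists_iso qFour eFour hqFour hh
  refine ⟨⁅u, v⁆, Subgroup.commutator_mem_commutator (Subgroup.mem_top _) (Subgroup.mem_top _), fun x hx => ?_⟩
  have hu' : ∀ y < 2 ^ 4, mat _ u⁻¹ *ᵥ dec eFour y = dec eFour (lN 4 g' y) := fun y hy => by
    conv_lhs => rw [← (hg y hy).2.2.2, ← hu, ← mulVec_mul, inv_mul_cancel]
    exact Matrix.one_mulVec _
  have hv' : ∀ y < 2 ^ 4, mat _ v⁻¹ *ᵥ dec eFour y = dec eFour (lN 4 h' y) := fun y hy => by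
    conv_lhs => rw [← (hh y hy).2.2.2, ← hv, ← mulVec_mul, inv_mul_cancel]
    exact Matrix.one_mulVec _
  rw [commutatorElement_def, mat, mulVec_mul, mulVec_mul, mulVec_mul]
  show mat _ u *ᵥ (mat _ v *ᵥ (mat _ u⁻¹ *ᵥ (mat _ v⁻¹ *ᵥ _))) = _
  rw [hv' x hx, hu' _ (hb x hx).2.1, hv, hu, (hb x hx).2.2]

theorem h1Four : ∀ f : ↥(Cfsg.Omega (ZMod 2) (Cfsg.quadFormMinus 1 (ZMod 2) 1 1)) → ((Fin 1 ⊕ Fin 1) ⊕ Fin 2 → ZMod 2),
    (∀ g h : ↥(Cfsg.Omega (ZMod 2) (Cfsg.quadFormMinus 1 (ZMod 2) 1 1)), f (g * h) = f g + Matrix.mulVec (((g : ↥(Cfsg.isometryGroup (ZMod 2) (Cfsg.quadFormMinus 1 (ZMod 2) 1 1))) : GL ((Fin 1 ⊕ Fin 1) ⊕ Fin 2) (ZMod 2)) : Matrix ((Fin 1 ⊕ Fin 1) ⊕ Fin 2) ((Fin 1 ⊕ Fin 1) ⊕ Fin 2) (ZMod 2)) (f h)) →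
    ∃ v : (Fin 1 ⊕ Fin 1) ⊕ Fin 2 → ZMod 2, ∀ g : ↥(Cfsg.Omega (ZMod 2) (Cfsg.quadFormMinus 1 (ZMod 2) 1 1)),
      f g = Matrix.mulVec (((g : ↥(Cfsg.isometryGroup (ZMod 2) (Cfsg.quadFormMinus 1 (ZMod 2) 1 1))) : GL ((Fin 1 ⊕ Fin 1) ⊕ Fin 2) (ZMod 2)) : Matrix ((Fin 1 ⊕ Fin 1) ⊕ Fin 2) ((Fin 1 ⊕ Fin 1) ⊕ Fin 2) (ZMod 2)) v - v := by
  obtain ⟨φ⟩ := minus_four_two (F := ZMod 2) (by simp)
  rw [← minusForm_coe] at φ ⊢
  set Q := minusForm 1 (ZMod 2) 1 1 with hQdef
  intro f hf
  obtain ⟨b, hbΩ, hb⟩ := exists_comm (g := [1, 2, 12, 4]) (g' := [1, 2, 8, 12]) (h := [7, 15, 3, 9]) (h' := [11, 15, 5, 3]) (im := [2, 7, 10, 4]) (by decide +kernel) (by decide +kernel) (by decide +kernel)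
  obtain ⟨d, hdΩ, hd⟩ := exists_comm (g := [1, 2, 4, 12]) (g' := [1, 2, 4, 12]) (h := [1, 11, 5, 8]) (h' := [1, 11, 5, 8]) (im := [1, 7, 4, 9]) (by decide +kernel) (by decide +kernel) (by decide +kernel)
  obtain ⟨t, htΩ, ht⟩ := exists_comm (g := [1, 2, 8, 12]) (g' := [1, 2, 12, 4]) (h := [1, 15, 5, 9]) (h' := [1, 15, 5, 9]) (im := [1, 11, 5, 8]) (by decide +kernel) (by decide +kernel) (by decide +kernel)
  set B : ↥(Cfsg.Omega (ZMod 2) (⇑Q)) := ⟨b, hbΩ⟩ with hB
  set D : ↥(Cfsg.Omega (ZMod 2) (⇑Q)) := ⟨d, hdΩ⟩ with hD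
  set T : ↥(Cfsg.Omega (ZMod 2) (⇑Q)) := ⟨t, htΩ⟩ with hT
  let bN := lN 4 [2, 7, 10, 4]
  let dN := lN 4 [1, 7, 4, 9]
  let tN := lN 4 [1, 11, 5, 8]
  have hlt : ∀ x < 2 ^ 4, lN 4 [2, 7, 10, 4] x < 2 ^ 4 ∧ lN 4 [1, 7, 4, 9] x < 2 ^ 4 ∧ lN 4 [1, 11, 5, 8] x < 2 ^ 4 := by
    decide +kernel
  have heq : ∀ {g g' : ↥(Cfsg.Omega (ZMod 2) (⇑Q))},
      (∀ x < 2 ^ 4, mat Q g.1 *ᵥ dec eFour x = mat Q g'.1 *ᵥ dec eFour x) → g = g' := fun h =>
    Subtype.ext (ext_dec qFour eFour hqFour h)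
  have hmul : ∀ (g g' : ↥(Cfsg.Omega (ZMod 2) (⇑Q))) v, mat Q (g * g').1 *ᵥ v = mat Q g.1 *ᵥ (mat Q g'.1 *ᵥ v) :=
    fun g g' v => mulVec_mul Q g.1 g'.1 v
  obtain ⟨w, hw, hfw⟩ := exists_code eFour (f B)
  set v₀ := dec eFour (lN 4 [2, 7, 10, 4] (lN 4 [2, 7, 10, 4] (lN 4 [2, 7, 10, 4] w)) ^^^ lN 4 [2, 7, 10, 4] w) with hv₀
  refine ⟨v₀, ?_⟩
  set f' : ↥(Cfsg.Omega (ZMod 2) (⇑Q)) → (Fin 1 ⊕ Fin 1) ⊕ Fin 2 → ZMod 2 :=
    fun g => f g - (mat Q g.1 *ᵥ v₀ - v₀) with hf'
  have hcoc : ∀ g g', f' (g * g') = f' g + mat Q g.1 *ᵥ f' g' := fun g g' => by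
    simp only [hf', hmul, Matrix.mulVec_sub]
    rw [hf]
    abel
  have neg2 : ∀ u : (Fin 1 ⊕ Fin 1) ⊕ Fin 2 → ZMod 2, -u = u := fun u => funext fun i => ZMod.neg_eq_self_mod_two _
  have hfB : f' B = 0 := by
    have key : ∀ x < 2 ^ 4, bN (bN (bN (bN x)) ^^^ bN x) ^^^ (bN (bN (bN x)) ^^^ bN x) = x ∧
        bN (bN (bN x)) ^^^ bN x < 2 ^ 4 := by decide +kernel
    show f B - (mat Q b *ᵥ v₀ - v₀) = 0
    rw [sub_eq_add_neg _ v₀, neg2, hv₀, hb _ (key w hw).2, ← dec_xor, (key w hw).1, hfw, sub_self]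
  have hz : ∀ {g : ↥(Cfsg.Omega (ZMod 2) (⇑Q))}, f' g = 0 → ∀ g', f' (g * g') = mat Q g.1 *ᵥ f' g' :=
    fun h g' => by rw [hcoc, h, zero_add]
  have h1 : f' 1 = 0 := by
    have := hcoc 1 1
    rw [mul_one] at this
    have e1 : mat Q ((1 : ↥(Cfsg.Omega (ZMod 2) (⇑Q))) : Cfsg.isometryGroup (ZMod 2) (⇑Q)) *ᵥ f' 1 = f' 1 :=
      Matrix.one_mulVec _
    rw [e1] at this
    exact left_eq_add.mp this
  obtain ⟨ft, hft, hft'⟩ := exists_code eFour (f' T)
  obtain ⟨fd, hfd, hfd'⟩ := exists_code eFour (f' D)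
  have hinj : ∀ x < 2 ^ 4, ∀ y < 2 ^ 4, dec eFour x = dec eFour y → x = y := by decide +kernel
  have hTBT : T * B = B * B * B * B * T := heq fun x hx => by
    have key : ∀ x < 2 ^ 4, tN (bN x) = bN (bN (bN (bN (tN x)))) := by decide +kernel
    simp only [hmul]
    rw [hb x hx, ht _ (hlt x hx).1, ht x hx, hb _ (hlt x hx).2.2, hb _ (hlt _ (hlt x hx).2.2).1,
      hb _ (hlt _ (hlt _ (hlt x hx).2.2).1).1, hb _ (hlt _ (hlt _ (hlt _ (hlt x hx).2.2).1).1).1]
    exact congrArg _ (key x hx)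
  have hfT : f' T = 0 := by
    have h2 := hcoc T B
    rw [hfB, Matrix.mulVec_zero, add_zero, hTBT] at h2
    have hBB : f' (B * B) = 0 := by rw [hz hfB, hfB, Matrix.mulVec_zero]
    have hBBB : f' (B * B * B * B) = 0 := by
      rw [mul_assoc, hz hBB, hBB, Matrix.mulVec_zero]
    rw [hz hBBB, ← hft'] at h2
    simp only [hmul] at h2
    rw [hb _ hft, hb _ (hlt _ hft).1, hb _ (hlt _ (hlt _ hft).1).1, hb _ (hlt _ (hlt _ (hlt _ hft).1).1).1] at h2
    have key : ∀ x < 2 ^ 4, bN (bN (bN (bN x))) = x → x = 0 := by decide +kernel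
    rw [← hft', key ft hft (hinj _ (hlt _ (hlt _ (hlt _ (hlt _ hft).1).1).1).1 _ hft h2), dec_zero]
  have hfD : f' D = 0 := by
    have hTD : T * D = D * T := heq fun x hx => by
      have key : ∀ x < 2 ^ 4, tN (dN x) = dN (tN x) := by decide +kernel
      simp only [hmul]
      rw [hd x hx, ht _ (hlt x hx).2.1, ht x hx, hd _ (hlt x hx).2.2]
      exact congrArg _ (key x hx)
    have h2 := hcoc D T
    rw [hfT, Matrix.mulVec_zero, add_zero, ← hTD, hz hfT, ← hfd', ht _ hfd] at h2
    have h3 : B * D * (B * D) * (B * D) = 1 := heq fun x hx => by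
      have key : ∀ x < 2 ^ 4, bN (dN (bN (dN (bN (dN x))))) = x := by decide +kernel
      simp only [hmul]
      rw [hd x hx, hb _ (hlt x hx).2.1, hd _ (hlt _ (hlt x hx).2.1).1, hb _ (hlt _ (hlt _ (hlt x hx).2.1).1).2.1,
        hd _ (hlt _ (hlt _ (hlt _ (hlt x hx).2.1).1).2.1).1,
        hb _ (hlt _ (hlt _ (hlt _ (hlt _ (hlt x hx).2.1).1).2.1).1).2.1]
      exact (congrArg _ (key x hx)).trans (Matrix.one_mulVec _).symm
    have h4 := congrArg f' h3
    rw [h1, hcoc, hcoc (B * D) (B * D), hz hfB, hmul, hmul, hmul, hmul, ← hfd', hb _ hfd,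
      hd _ (hlt _ hfd).1, hb _ (hlt _ (hlt _ hfd).1).2.1,
      hd _ (hlt _ (hlt _ (hlt _ hfd).1).2.1).1, hb _ (hlt _ (hlt _ (hlt _ (hlt _ hfd).1).2.1).1).2.1,
      ← dec_xor, ← dec_xor, ← dec_zero eFour] at h4
    have key : ∀ x < 2 ^ 4, tN x = x → bN x ^^^ bN (dN (bN x)) ^^^ bN (dN (bN (dN (bN x)))) = 0 → x = 0 := by
      decide +kernel
    have hlt' : ∀ x < 2 ^ 4, bN x ^^^ bN (dN (bN x)) ^^^ bN (dN (bN (dN (bN x)))) < 2 ^ 4 := by decide +kernel
    rw [← hfd', key fd hfd (hinj _ (hlt _ hfd).2.2 _ hfd h2) (hinj _ (hlt' fd hfd) _ (by norm_num) h4), dec_zero]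
  let Z : Subgroup ↥(Cfsg.Omega (ZMod 2) (⇑Q)) :=
    { carrier := {g | f' g = 0}
      one_mem' := h1
      mul_mem' := fun {x y} hx hy => (hz hx y).trans (by rw [hy, Matrix.mulVec_zero])
      inv_mem' := fun {x} hx => by
        have := hcoc x⁻¹ x
        rw [inv_mul_cancel, h1, show f' x = 0 from hx, Matrix.mulVec_zero, add_zero] at this
        exact this.symm }
  let ev : List Bool → ↥(Cfsg.Omega (ZMod 2) (⇑Q)) := fun l => (l.map fun s => if s then B else D).prod
  have hev : ∀ l, ev l ∈ Z := fun l => Z.list_prod_mem fun x hx => by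
    obtain ⟨s, -, rfl⟩ := List.mem_map.mp hx
    cases s
    · exact hfD
    · exact hfB
  have hact : ∀ l x, x < 2 ^ 4 → mat Q (ev l).1 *ᵥ dec eFour x = dec eFour (fourAct l x) ∧ fourAct l x < 2 ^ 4 := by
    intro l
    induction l with
    | nil => exact fun x hx => ⟨Matrix.one_mulVec _, hx⟩
    | cons s l ih =>
      intro x hx
      obtain ⟨h5, h6⟩ := ih x hx
      simp only [ev, List.map_cons, List.prod_cons] at h5 ⊢
      rw [hmul, h5]
      cases s
      · exact ⟨hd _ h6, (hlt _ h6).2.1⟩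
      · exact ⟨hb _ h6, (hlt _ h6).1⟩
  have hdistinct : ∀ i < fourWords.length, ∀ j < fourWords.length,
      (∀ x < 2 ^ 4, fourAct (fourWords.getD i []) x = fourAct (fourWords.getD j []) x) → i = j := by
    have key : ((fourWords.map fun l => [1, 2, 4, 8].map (fourAct l))).Nodup := by decide +kernel
    intro i hi j hj hij
    refine (key.getElem_inj_iff (hi := by simpa using hi) (hj := by simpa using hj)).mp ?_
    rw [List.getElem_map, List.getElem_map, ← List.getD_eq_getElem _ [] hi, ← List.getD_eq_getElem _ [] hj]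
    refine List.map_congr_left fun x hx => hij x ?_
    simp only [List.mem_cons, List.not_mem_nil, or_false] at hx
    omega
  have h60 : 60 ≤ Nat.card Z := by
    let g : Fin fourWords.length → Z := fun i => ⟨ev (fourWords.getD i []), hev _⟩
    have hg : Function.Injective g := fun i j h => Fin.ext (hdistinct i i.2 j j.2 fun x hx =>
      hinj _ (hact _ x hx).2 _ (hact _ x hx).2 (by
        rw [← (hact _ x hx).1, ← (hact _ x hx).1,
          show ev (fourWords.getD i []) = ev (fourWords.getD j []) from congrArg Subtype.val h]))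
    exact le_of_eq_of_le (by rw [Nat.card_eq_fintype_card, Fintype.card_fin]; decide) (Nat.card_le_card_of_injective g hg)
  have hle : Nat.card ↥(Cfsg.Omega (ZMod 2) (⇑Q)) ≤ 60 := by
    have h5 : (Cfsg.Omega (ZMod 2) (⇑Q)).map φ.toMonoidHom ≤ alternatingGroup (Fin 5) := by
      refine Subgroup.map_le_iff_le_comap.mpr ?_
      exact le_trans (Abelianization.commutator_subset_ker (Equiv.Perm.sign.comp φ.toMonoidHom)) fun x hx => by obtain ⟨σ, h1, h2⟩ : ∃ σ, Equiv.Perm.sign σ = 1 ∧ φ.symm σ = x := (by simpa [MonoidHom.mem_ker] using hx); subst h2; simpa using h1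
    rw [Nat.card_congr (Subgroup.equivMapOfInjective _ φ.toMonoidHom φ.injective).toEquiv]
    refine (Subgroup.card_le_of_le h5).trans (le_of_eq ?_)
    rw [Nat.card_eq_fintype_card]
    decide +kernel
  intro g
  have : g ∈ Z := by
    rw [Subgroup.eq_top_of_le_card Z (hle.trans h60)]
    exact Subgroup.mem_top g
  exact sub_eq_zero.mp this

end Cfsg.Lib.Classical.OrthH1
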