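import Cfsg.Agent.Classical.OrthH1.Cert
import Cfsg.Agent.Classical.Orth.StdForms
import Cfsg.Agent.Classical.Misc.HyperbolicQuadric

/-!
# Cohomology of the natural module in dimension 6
-/

set_option autoImplicit false
set_option linter.style.longLine false
set_option maxHeartbeats 4000000
set_option maxRecDepth 100000

namespace Cfsg.Lib.Classical.OrthH1

open Matrix Cfsg.Lib.Classical.Refl

/-- The coded form. -/
def qSix (x : ℕ) : Bool := (x.testBit 0 && x.testBit 2) ^^ (x.testBit 1 && x.testBit 3) ^^ x.testBit 4 ^^ (x.testBit 4 && x.testBit 5) ^^ x.testBit 5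

/-- Certificate in dimension 6. -/
def certSix : Cert where
  n := 6
  a0 := ([3, 1, 8, 12, 32, 48], [2, 1, 9, 6, 32, 16])
  acts := [([3, 1, 8, 12, 32, 48], [2, 1, 9, 6, 32, 16]), ([9, 6, 2, 1, 32, 48], [15, 6, 4, 12, 32, 16]), ([59, 37, 42, 61, 47, 54], [42, 61, 59, 37, 47, 25]), ([3, 1, 26, 45, 50, 17], [2, 1, 27, 53, 50, 35]), ([3, 1, 42, 61, 51, 18], [2, 1, 43, 39, 51, 32])]
  gens := [(3, 12, 55), (0, 27, 46), (4, 15, 21), (2, 3, 30), (1, 2, 6)]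
  orbit := [(1, 0, 0), (58, 0, 0), (26, 1, 0), (27, 2, 0), (2, 3, 0), (3, 4, 0), (15, 1, 1), (53, 2, 1), (39, 3, 1), (62, 4, 1), (45, 0, 2), (4, 3, 2), (30, 4, 2), (23, 0, 3), (6, 3, 3), (29, 4, 3), (55, 1, 4), (12, 2, 5), (9, 4, 6), (43, 3, 7), (61, 2, 8), (37, 4, 8), (46, 3, 10), (8, 0, 11), (42, 1, 11), (21, 4, 13), (59, 4, 20)]
  span := [(0, 12, 55, [2, 4], 43), (0, 55, 12, [1, 3], 9), (1, 27, 46, [2], 59), (3, 3, 30, [4], 26)]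
  basis := [[1], [1, 43, 9, 59, 26], [], [1, 9], [43, 59], [1, 59, 26]]
  pivot := 2

/-- The index coding. -/
def eSix : (Fin 2 ⊕ Fin 2) ⊕ Fin 2 ≃ Fin certSix.n :=
  (Equiv.sumCongr finSumFinEquiv (Equiv.refl _)).trans finSumFinEquiv

theorem validSix : certSix.Valid qSix :=
  ⟨by decide +kernel, by decide +kernel, by decide +kernel, by decide +kernel, by decide +kernel, by decide +kernel,
    by decide +kernel, by decide +kernel, by decide +kernel, by decide +kernel, by decide +kernel, by decide +kernel⟩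

theorem formSix : ∀ x < 2 ^ certSix.n, Cfsg.quadFormMinus 2 (ZMod 2) 1 1 (dec eSix x) = ofBit (qSix x) := by
  unfold Cfsg.quadFormMinus
  decide +kernel

theorem h1Six : ∀ f : ↥(Cfsg.Omega (ZMod 2) (Cfsg.quadFormMinus 2 (ZMod 2) 1 1)) → ((Fin 2 ⊕ Fin 2) ⊕ Fin 2 → ZMod 2),
    (∀ g h : ↥(Cfsg.Omega (ZMod 2) (Cfsg.quadFormMinus 2 (ZMod 2) 1 1)), f (g * h) = f g + Matrix.mulVec (((g : ↥(Cfsg.isometryGroup (ZMod 2) (Cfsg.quadFormMinus 2 (ZMod 2) 1 1))) : GL ((Fin 2 ⊕ Fin 2) ⊕ Fin 2) (ZMod 2)) : Matrix ((Fin 2 ⊕ Fin 2) ⊕ Fin 2) ((Fin 2 ⊕ Fin 2) ⊕ Fin 2) (ZMod 2)) (f h)) →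
    ∃ v : (Fin 2 ⊕ Fin 2) ⊕ Fin 2 → ZMod 2, ∀ g : ↥(Cfsg.Omega (ZMod 2) (Cfsg.quadFormMinus 2 (ZMod 2) 1 1)),
      f g = Matrix.mulVec (((g : ↥(Cfsg.isometryGroup (ZMod 2) (Cfsg.quadFormMinus 2 (ZMod 2) 1 1))) : GL ((Fin 2 ⊕ Fin 2) ⊕ Fin 2) (ZMod 2)) : Matrix ((Fin 2 ⊕ Fin 2) ⊕ Fin 2) ((Fin 2 ⊕ Fin 2) ⊕ Fin 2) (ZMod 2)) v - v := by
  have hab : ∀ z₁ z₂ : ZMod 2, z₁ ^ 2 + 1 * z₁ * z₂ + 1 * z₂ ^ 2 = 0 → z₁ = 0 ∧ z₂ = 0 := by decide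
  rw [← minusForm_coe]
  intro f hf
  exact certSix.h1 qSix (Q := minusForm 2 (ZMod 2) 1 1) validSix eSix (fun x hx => by rw [minusForm_coe]; exact formSix x hx)
    (minusForm_nondegenerate' 2 hab) (by simp) f hf

end Cfsg.Lib.Classical.OrthH1
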